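import Cfsg.Agent.H324.AP.MinS

/-!
# S4791, S4927: `p ∣ q ^ j + 1` for an irreducible nondegenerate block (helper16, for helper914)

`dvd_of_irr` : if a `p`-group of isometries of a bilinear form acts irreducibly and nontrivially on a nondegenerate
subspace then `p ∣ q ^ j + 1` for some `j`.
-/

set_option autoImplicit false

namespace Cfsg.Agent.H16.XZ

open Submodule Module Cfsg.Agent.H324.AP Polynomial

universe u v

variable {F : Type u} {V : Type v} [Field F] [AddCommGroup V] [Module F V]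

/-- a central element modulo the kernel on `D` -/
theorem exists_central [Finite V] {p : ℕ} [Fact p.Prime] {P : Subgroup (V ≃ₗ[F] V)} (hP : IsPGroup p P)
    {D : Submodule F V} (hi : Inv P D) (hne : D ≠ ⊥) (hfix : ∀ u ∈ D, u ∈ fixP P → u = 0) :
    ∃ z ∈ P, (∀ g ∈ P, ∀ d ∈ D, g (z d) = z (g d)) ∧ ∃ d ∈ D, z d ≠ d := by
  have hfin : Finite (V ≃ₗ[F] V) := Finite.of_injective (fun g : V ≃ₗ[F] V => (g : V → V)) DFunLike.coe_injective
  let ρ : P →* Equiv.Perm D :=
    { toFun := fun g =>
        { toFun := fun d => ⟨(g : V ≃ₗ[F] V) d, hi _ g.2 _ d.2⟩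
          invFun := fun d => ⟨((g⁻¹ : P) : V ≃ₗ[F] V) d, hi _ (g⁻¹ : P).2 _ d.2⟩
          left_inv := fun d => Subtype.ext (LinearEquiv.symm_apply_apply (g : V ≃ₗ[F] V) d)
          right_inv := fun d => Subtype.ext (LinearEquiv.apply_symm_apply (g : V ≃ₗ[F] V) d) }
      map_one' := rfl
      map_mul' := fun _ _ => rfl }
  have hRp : IsPGroup p ρ.range := by
    rw [MonoidHom.range_eq_map]
    exact (hP.to_subgroup ⊤).map ρ
  have hRn : Nontrivial ρ.range := by
    by_contra hne'
    rw [not_nontrivial_iff_subsingleton] at hne'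
    apply hne
    rw [eq_bot_iff]
    intro d hd
    apply hfix d hd
    intro g hg
    have h3 : (⟨ρ ⟨g, hg⟩, ⟨_, rfl⟩⟩ : ρ.range) = 1 := Subsingleton.elim _ _
    have h4 := congrArg (fun f : ρ.range => ((f : Equiv.Perm D) ⟨d, hd⟩ : V)) h3
    exact h4
  have hfr : Finite ρ.range := inferInstance
  have hc := hRp.center_nontrivial
  obtain ⟨⟨⟨zz, ⟨z, rfl⟩⟩, hzc⟩, hz1⟩ := exists_ne (1 : Subgroup.center ρ.range)
  refine ⟨z, z.2, fun g hg d hd => ?_, ?_⟩
  · have h3 := Subgroup.mem_center_iff.1 hzc ⟨ρ ⟨g, hg⟩, ⟨_, rfl⟩⟩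
    have h4 := congrArg (fun f : ρ.range => ((f : Equiv.Perm D) ⟨d, hd⟩ : V)) h3
    exact h4
  · by_contra hcon
    push Not at hcon
    apply hz1
    apply Subtype.ext
    apply Subtype.ext
    apply Equiv.ext
    intro d
    exact Subtype.ext (hcon d d.2)

/-- **the irreducible case** -/
theorem dvd_of_irr [Finite F] [Finite V] {p : ℕ} [Fact p.Prime] (_hpF : (p : F) ≠ 0)
    {B : V → V → F} {G : Subgroup (V ≃ₗ[F] V)} (h : SplF (RingHom.id F) B G) {P : Subgroup (V ≃ₗ[F] V)} (hPG : P ≤ G)
    (hP : IsPGroup p P) {D : Submodule F V} (hi : Irr P D) (hn : ND B D) (hfix : ∀ u ∈ D, u ∈ fixP P → u = 0) :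
    ∃ j : ℕ, p ∣ Nat.card F ^ j + 1 := by
  classical
  obtain ⟨z, hz, hzc, d₀, hd₀, hzd₀⟩ := exists_central hP hi.inv hi.ne hfix
  let TD : Module.End F D := (z : V →ₗ[F] V).restrict (fun d hd => hi.inv z hz d hd)
  have hTD : ∀ (n : ℕ) (d : D), (((TD ^ n) d : D) : V) = (z ^ n) d := by
    intro n
    induction n with
    | zero => intro d; rfl
    | succ n ih =>
      intro d
      rw [pow_succ', Module.End.mul_apply, pow_succ', LinearEquiv.mul_apply, ← ih]
      rfl
  -- the order of `z`
  obtain ⟨m, hm⟩ := hP ⟨z, hz⟩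
  have hzN : z ^ (p ^ m) = 1 := congrArg Subtype.val hm
  set N := p ^ m with hN
  have hN1 : 1 ≤ N := Nat.one_le_pow _ _ (Fact.out : p.Prime).pos
  have hTN : TD ^ N = 1 := by
    ext d
    rw [hTD, hzN]
    rfl
  -- commutation with `P`
  have hcomm : ∀ g ∈ P, ∀ (n : ℕ), ∀ d ∈ D, g ((z ^ n) d) = (z ^ n) (g d) := by
    intro g hg n
    induction n with
    | zero => intro d _; rfl
    | succ n ih =>
      intro d hd
      rw [pow_succ', LinearEquiv.mul_apply, LinearEquiv.mul_apply, ← ih d hd,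
        hzc g hg _ (hi.inv _ (P.pow_mem hz n) d hd)]
  have hcoeP : ∀ (g : F[X]) (x : V ≃ₗ[F] V) (hx : x ∈ P) (d : D),
      ((aeval TD g ⟨x d, hi.inv x hx d d.2⟩ : D) : V) = x (aeval TD g d : D) := by
    intro g x hx d
    induction g using Polynomial.induction_on' with
    | add f g hf hg =>
      rw [map_add, LinearMap.add_apply, LinearMap.add_apply, Submodule.coe_add, Submodule.coe_add, hf, hg, map_add]
    | monomial n a =>
      rw [aeval_monomial, Module.End.mul_apply, Module.End.mul_apply, Module.algebraMap_end_apply,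
        Module.algebraMap_end_apply, Submodule.coe_smul, Submodule.coe_smul, map_smul, hTD, hTD, hcomm x hx n d d.2]
  -- the minimal polynomial is irreducible
  have hint : IsIntegral F TD := Algebra.IsIntegral.isIntegral TD
  set f := minpoly F TD with hf
  have hkey : ∀ g h : F[X], aeval TD (g * h) = 0 → aeval TD g = 0 ∨ aeval TD h = 0 := by
    intro g k hgk
    let W : Submodule F V := (LinearMap.ker (aeval TD g)).map D.subtype
    have hWD : W ≤ D := Submodule.map_subtype_le D _
    have hWi : Inv P W := by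
      rintro x hx _ ⟨d, hd, rfl⟩
      refine ⟨⟨x d, hi.inv x hx d d.2⟩, ?_, rfl⟩
      have h1 := hcoeP g x hx d
      rw [SetLike.mem_coe, LinearMap.mem_ker] at hd ⊢
      rw [hd, Submodule.coe_zero, map_zero] at h1
      exact Subtype.ext h1
    rcases hi.min W hWD hWi with h1 | h1
    · right
      ext d
      have h2 : ((aeval TD k d : D) : V) ∈ W := by
        refine ⟨_, ?_, rfl⟩
        rw [SetLike.mem_coe, LinearMap.mem_ker, ← Module.End.mul_apply, ← map_mul, hgk, LinearMap.zero_apply]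
      rw [h1] at h2
      exact (Submodule.mem_bot F).1 h2
    · left
      ext d
      have h2 : (d : V) ∈ W := by rw [h1]; exact d.2
      obtain ⟨d', hd', he⟩ := h2
      have h3 : d' = d := Subtype.ext he
      rw [h3] at hd'
      exact congrArg Subtype.val (LinearMap.mem_ker.1 hd')
  have hnt : Nontrivial D := by
    refine ⟨⟨⟨d₀, hd₀⟩, 0, ?_⟩⟩
    intro h0
    apply hzd₀
    have h1 : d₀ = 0 := congrArg Subtype.val h0
    rw [h1, map_zero]
  have hirr : Irreducible f := by
    refine ⟨minpoly.not_isUnit F TD, fun g k hgk => ?_⟩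
    have hg0 : aeval TD (g * k) = 0 := by rw [← hgk]; exact minpoly.aeval F TD
    have hf0 : f ≠ 0 := minpoly.ne_zero hint
    rcases hkey g k hg0 with h1 | h1
    · right
      obtain ⟨c, hc⟩ := minpoly.dvd F TD h1
      rw [← hf] at hc
      have h2 : f * (c * k) = f * 1 := by rw [mul_one, ← mul_assoc, ← hc, ← hgk]
      exact IsUnit.of_mul_eq_one c (by rw [mul_comm]; exact mul_left_cancel₀ hf0 h2)
    · left
      obtain ⟨c, hc⟩ := minpoly.dvd F TD h1
      rw [← hf] at hc
      have h2 : f * (c * g) = f * 1 := by rw [mul_one, ← mul_assoc, ← hc, mul_comm k g, ← hgk]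
      exact IsUnit.of_mul_eq_one c (by rw [mul_comm]; exact mul_left_cancel₀ hf0 h2)
  -- the adjoint
  have hadj : ∀ (g : F[X]) (u v : D), B (aeval TD g u : D) v = B u (aeval (TD ^ (N - 1)) g v : D) := by
    intro g u v
    induction g using Polynomial.induction_on' with
    | add f g hf hg =>
      rw [map_add, map_add, LinearMap.add_apply, LinearMap.add_apply, Submodule.coe_add, Submodule.coe_add, h.add_left,
        h.add_right, hf, hg]
    | monomial n a =>
      rw [aeval_monomial, aeval_monomial, Module.End.mul_apply, Module.End.mul_apply, Module.algebraMap_end_apply,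
        Module.algebraMap_end_apply, Submodule.coe_smul, Submodule.coe_smul, h.smul_left, h.smul_right, ← pow_mul, hTD,
        hTD, RingHom.id_apply]
      congr 1
      rw [← h.pres (z ^ ((N - 1) * n)) (hPG (P.pow_mem hz _)) ((z ^ n) u) v, ← LinearEquiv.mul_apply, ← pow_add]
      congr 1
      have h1 : (N - 1) * n + n = N * n := by
        obtain ⟨k, hk⟩ := Nat.exists_eq_add_of_le hN1
        rw [hk]
        simp only [Nat.add_sub_cancel_left]
        ring
      rw [h1, pow_mul, hzN, one_pow]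
      rfl
  have hfadj : aeval (TD ^ (N - 1)) f = 0 := by
    ext v
    refine hn _ (aeval (TD ^ (N - 1)) f v : D).2 fun u hu => ?_
    apply h.refl
    have h1 := hadj f ⟨u, hu⟩ v
    rw [minpoly.aeval] at h1
    rw [← h1]
    exact h.zero_left _
  -- the field
  have hfact : Fact (Irreducible f) := ⟨hirr⟩
  have hKfin : Module.Finite F (AdjoinRoot f) := (AdjoinRoot.powerBasis hirr.ne_zero).finite
  have hKf : Finite (AdjoinRoot f) := Module.finite_of_finite F
  have hev : f.eval₂ (Algebra.ofId F (AdjoinRoot f)) (AdjoinRoot.root f ^ (N - 1)) = 0 := by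
    have h1 : f ∣ expand F (N - 1) f := by
      apply minpoly.dvd
      rw [expand_aeval]
      exact hfadj
    have h2 : aeval (AdjoinRoot.root f) (expand F (N - 1) f) = 0 := by
      rw [AdjoinRoot.aeval_eq, AdjoinRoot.mk_eq_zero]
      exact h1
    rw [expand_aeval] at h2
    exact h2
  let σ : AdjoinRoot f →ₐ[F] AdjoinRoot f := AdjoinRoot.liftAlgHom f (Algebra.ofId F _) (AdjoinRoot.root f ^ (N - 1)) hev
  have hσ : σ (AdjoinRoot.root f) = AdjoinRoot.root f ^ (N - 1) := AdjoinRoot.liftAlgHom_root _ _ _ _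
  have : Fintype F := Fintype.ofFinite F
  obtain ⟨j, hj⟩ := (FiniteField.bijective_frobeniusAlgHom_pow F (AdjoinRoot f)).2 σ
  have hroot : AdjoinRoot.root f ^ (Nat.card F ^ (j : ℕ)) = AdjoinRoot.root f ^ (N - 1) := by
    rw [← hσ, ← hj]
    have h1 : ∀ (n : ℕ) (x : AdjoinRoot f), ((FiniteField.frobeniusAlgHom F (AdjoinRoot f)) ^ n) x = x ^ (Nat.card F ^ n) := by
      intro n
      induction n with
      | zero => intro x; rw [pow_zero, pow_zero, pow_one]; rfl
      | succ n ih =>
        intro x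
        rw [pow_succ', AlgHom.mul_apply, ih, pow_succ, pow_mul]
        rw [Nat.card_eq_fintype_card]
        rfl
    exact (h1 _ _).symm
  have hrN : AdjoinRoot.root f ^ N = 1 := by
    have h1 : f ∣ X ^ N - 1 := by
      apply minpoly.dvd
      rw [map_sub, map_pow, aeval_X, hTN, map_one, sub_self]
    have h2 := AdjoinRoot.mk_eq_zero.2 h1
    rw [map_sub, map_pow, AdjoinRoot.mk_X, map_one, sub_eq_zero] at h2
    exact h2
  have hr1 : AdjoinRoot.root f ≠ 1 := by
    intro h1
    have h2 : AdjoinRoot.mk f (X - 1) = 0 := by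
      rw [map_sub, AdjoinRoot.mk_X, map_one, h1, sub_self]
    obtain ⟨c, hc⟩ := AdjoinRoot.mk_eq_zero.1 h2
    have h3 : aeval TD (X - 1 : F[X]) = 0 := by rw [hc, map_mul, minpoly.aeval, zero_mul]
    rw [map_sub, aeval_X, map_one, sub_eq_zero] at h3
    apply hzd₀
    have h4 := congrArg (fun t : Module.End F D => ((t ⟨d₀, hd₀⟩ : D) : V)) h3
    exact h4
  have hr2 : AdjoinRoot.root f ^ (Nat.card F ^ (j : ℕ) + 1) = 1 := by
    rw [pow_succ, hroot, ← pow_succ, Nat.sub_add_cancel hN1, hrN]
  refine ⟨j, ?_⟩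
  have h5 := orderOf_dvd_of_pow_eq_one hr2
  have h6 := orderOf_dvd_of_pow_eq_one hrN
  obtain ⟨i, -, hi'⟩ := (Nat.dvd_prime_pow (Fact.out : p.Prime)).1 h6
  rcases Nat.eq_zero_or_pos i with rfl | hi0
  · rw [pow_zero, orderOf_eq_one_iff] at hi'
    exact absurd hi' hr1
  · rw [hi'] at h5
    exact (dvd_pow_self p hi0.ne').trans h5

end Cfsg.Agent.H16.XZ
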